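import Cfsg.Agent.CosetEnum.Basic

/-! Certificate of a coset enumeration (generated data, owner: helper12). -/

set_option autoImplicit false
set_option maxRecDepth 1000000

namespace Cfsg.Agent.CosetEnum.J3K4

noncomputable def tab : T := .l 0 0xf0000b00000e0000c0000100000f0000000000bfffffffffff0000000000a000010000100000110000d0000120000efffffffffff0000130000d00000d0000d0000000000a0000120000ffffffffffff0000130000e0000110000f00000d0000e00000000008fffffffffff0000000000700000b0000900000e0001000000c00009fffffffffff00000f0001000000a0000a0000000000700000000010fffffffffff0000000000f0000000000e00000a0000b00000000006fffffffffff000000000050000090000600000b0000c00000c0000cfffffffffff0000060000600000700005000000000040000000000dfffffffffff0000000000c0000000000b0000080000500000000004fffffffffff0000060000800000000003000009000090000000000afffffffffff00000000009000008000070000070000800000000003fffffffffff00000500003000000000080000000000200000000007fffffffffff00000500004000000000020000000000600000000005fffffffffff00000400002000000000040000000000300000000001fffffffffff00000000000000003000010000030000100000000002fffffffffff00000000001000002000000000020000000000100000fffffffffff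

def lw : WT := .e

def L : LL := .cons 1 1 (.n 1 (.l [4,1,4,1,4] []) (.l [3,3,3,3,1,2,1,2,2,2] [])) (.l [] []) ( .cons 2 3 (.n 2 (.n 1 (.l [4,3,4] []) (.l [1,3,1,2,2,2,2,1,3,3] [])) (.n 3 (.l [3,3,3,1,2,1,2,2,2,1] []) (.l [1,2,1,2,2,2,1,3,3,3] []))) (.l [] []) ( .cons 3 2 (.n 1 (.l [4,2,4] []) (.n 2 (.l [2,2,2,1,3,3,3,1,3,1] []) (.l [1,3,3,3,3,1,2,1,2,2] []))) (.l [] []) ( .cons 4 4 (.n 1 (.l [1,4,1,4,1] []) (.n 2 (.l [3,4,3] []) (.l [2,4,2] []))) (.e) ( .nil ))))

def iv : List (Nat × Nat) := [(2, 3)]

def RL : List (List Nat × Nat) := [([2], 15), ([1, 3, 3, 3, 1, 3, 1, 2, 2, 2, 2], 1), ([4, 2], 2), ([1, 4], 3)]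

def subs : List (List Nat) := [[1], [2]]

noncomputable def P : Par := ⟨tab, 220, 1684996666696914987166688442938726917102321526408785780068975640575, 17, icG 4 iv, lw⟩

end Cfsg.Agent.CosetEnum.J3K4
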