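import Cfsg.Agent.CosetEnum.Basic

/-! Certificate of a coset enumeration (generated data, owner: helper12). -/

set_option autoImplicit false
set_option maxRecDepth 1000000

namespace Cfsg.Agent.CosetEnum.J3KH

noncomputable def tab : T := .l 0 0x500000f00006ffffffffffffffffffffff0000100000afffffffffff00001100005ffffffffffffffffffffff00000000001ffffffffffffffffffffff0000030000400000500000ffffffffffffffffffffff00000600002fffffffffff00000000001fffffffffff00000800007fffffffffffffffffffffffffffffffff0000000000100000a000010000010000200000b000020000000000000000f0000affffffffffffffffffffffffffffffffffffffffffff000012000000000000000a00000000000ffffffffffffffffffffff00000d00005fffffffffff00001300000ffffffffffffffffffffff00000000000ffffffffffffffffffffff0000030000900000400001ffffffffffffffffffffffffffffffffffffffffffff000000000000000020000800000700002ffffffffffffffffffffff0000060000800000000000000009000000000010000700000e00000ffffffffffffffffffffff0000000000900000000008000000000070000000000000000c00000000000000060000000000500000000004000000000030000000000200000000001fffffffffff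

def lw : WT := .n 3 (.n 1 (.l [3,5,2,5] []) (.n 2 (.l [2,4,3,4] []) (.l [4,1,4,1,4,1] []))) (.n 4 (.l [5,6,4,6,4,6,4,6,4] []) (.n 5 (.l [1,3,1,2,2,2,2,1,3,3,3] []) (.l [6,2,6,2,6,2] [])))

def L : LL := .cons 1 1 (.n 1 (.l [3,1,2] []) (.n 2 (.l [2,1,3] []) (.l [4,1,4] []))) (.e) ( .cons 2 3 (.n 1 (.l [5,2,2,2,2,5] []) (.l [6,2,6] [])) (.e) ( .cons 3 2 (.e) (.e) ( .cons 4 4 (.l [3,4,3] []) (.e) ( .cons 5 5 (.l [6,5,6] []) (.e) ( .cons 6 6 (.e) (.e) ( .nil ))))))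

def iv : List (Nat × Nat) := [(2, 3)]

def RL : List (List Nat × Nat) := [([2], 15), ([1, 3, 3, 3, 1, 3, 1, 2, 2, 2, 2], 1), ([4, 2], 2), ([1, 4], 3), ([1, 5], 2), ([5, 4], 2), ([5, 2, 5, 3, 3, 3, 3], 1), ([6, 1], 2), ([6, 5], 2), ([6, 3, 3, 3, 3, 3, 6, 2, 2, 2, 2, 2], 1), ([6, 2], 3), ([6, 2, 2, 2], 5), ([6, 3, 1, 2, 6, 2, 2, 2, 1, 3, 3, 3], 1), ([6, 5, 2, 2, 2], 3), ([6, 4, 6, 4, 6, 4, 6, 4, 5], 1), ([6, 4, 6, 4, 1, 4, 6, 4, 1, 3, 3, 3, 3, 3, 1, 4, 6, 4, 1, 2, 2, 2, 2, 2, 1, 3, 3, 3, 3, 3, 1, 4, 6, 4, 1, 2, 2, 2, 2, 2, 1], 1), ([3, 3, 6, 4, 2, 6, 3, 4, 2, 6, 3, 4, 6, 2, 4], 1), ([1, 1, 1, 1], 1), ([1, 2, 1, 3], 1), ([1, 3, 1, 2], 1), ([1, 4, 1, 4], 1), ([1, 5, 1, 5], 1), ([1, 6, 1, 6], 1), ([2, 1, 3, 1], 1), ([2, 2, 3, 3], 1), ([2, 3, 3, 2], 1), ([2, 4, 3, 4], 1), ([2, 5, 3, 5], 1), ([2, 6, 3, 6], 1), ([3, 1, 2, 1], 1), ([3, 2, 2, 3], 1), ([3, 3, 2, 2], 1), ([3, 4, 2, 4], 1),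 ([3, 5, 2, 5], 1), ([3, 6, 2, 6], 1), ([4, 1, 4, 1], 1), ([4, 2, 4, 3], 1), ([4, 3, 4, 2], 1), ([4, 4, 4, 4], 1), ([4, 5, 4, 5], 1), ([4, 6, 4, 6], 1), ([5, 1, 5, 1], 1), ([5, 2, 5, 3], 1), ([5, 3, 5, 2], 1), ([5, 4, 5, 4], 1), ([5, 5, 5, 5], 1), ([5, 6, 5, 6], 1), ([6, 1, 6, 1], 1), ([6, 2, 6, 3], 1), ([6, 3, 6, 2], 1), ([6, 4, 6, 4], 1), ([6, 5, 6, 5], 1), ([6, 6, 6, 6], 1)]

def subs : List (List Nat) := []

noncomputable def P : Par := ⟨tab, 308, 521481209941628438084722096232800809229175908778479680162851955034721612739414196782949728255, 11, icG 6 iv, lw⟩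

end Cfsg.Agent.CosetEnum.J3KH
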