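import Cfsg.Agent.CosetEnum.Basic

/-! Certificate of a coset enumeration (generated data, owner: helper12). -/

set_option autoImplicit false
set_option maxRecDepth 1000000

namespace Cfsg.Agent.CosetEnum.J3KQ

noncomputable def tab : T := .l 0 0x1ffffffffffffffffffffff000003000040000050000000000600002fffffffffff00000000001fffffffffff00000800005fffffffffff0000000000100000a000010000010000200000b0000200000000000ffffffffffffffffffffff0000030000700000400001ffffffffffffffffffffff0000000000000000200006000007000020000060000600000000000000009000000000010000500000d000000000000000700000000006000000000050000000000000000c0000000000000004000000000030000000000200000000001fffffffffff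

def lw : WT := .n 2 (.n 1 (.l [3,3,3,3,3,3,3,3,3,3,3,3,3,3,3] []) (.l [2,4,3,4] [])) (.n 3 (.l [4,1,4,1,4,1] []) (.l [1,3,1,2,2,2,2,1,3,3,3] []))

def L : LL := .cons 1 1 (.n 1 (.l [3,1,2] []) (.n 2 (.l [2,1,3] []) (.l [4,1,4] []))) (.e) ( .cons 2 3 (.e) (.e) ( .cons 3 2 (.e) (.e) ( .cons 4 4 (.l [3,4,3] []) (.e) ( .nil ))))

def iv : List (Nat × Nat) := [(2, 3)]

def RL : List (List Nat × Nat) := [([2], 15), ([1, 3, 3, 3, 1, 3, 1, 2, 2, 2, 2], 1), ([4, 2], 2), ([1, 4], 3), ([1, 1, 1, 1], 1), ([1, 2, 1, 3], 1), ([1, 3, 1, 2], 1), ([1, 4, 1, 4], 1), ([2, 1, 3, 1], 1), ([2, 2, 3, 3], 1), ([2, 3, 3, 2], 1), ([2, 4, 3, 4], 1), ([3, 1, 2, 1], 1), ([3, 2, 2, 3], 1), ([3, 3, 2, 2], 1), ([3, 4, 2, 4], 1), ([4, 1, 4, 1], 1), ([4, 2, 4, 3], 1), ([4, 3, 4, 2], 1), ([4, 4, 4, 4], 1)]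

def subs : List (List Nat) := []

noncomputable def P : Par := ⟨tab, 220, 1684996666696914987166688442938726917102321526408785780068975640575, 8, icG 4 iv, lw⟩

end Cfsg.Agent.CosetEnum.J3KQ
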