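import Cfsg.Agent.CosetEnum.Basic

/-! Permutation table (generated data, owner: helper12). -/

set_option autoImplicit false
set_option maxRecDepth 1000000

namespace Cfsg.Agent.CosetEnum.J3T4

noncomputable def tab : T := .l 0 0x90000f0000c0000d000000000b0000e000100000b00000000070000a0000f0000a000000000c0000c0000900010000000000d000100000d00008000000000f00009000070000f0000000005000060000e0000e00000000100000d0000b00006000000000600005000040000c000000000e0000b00005000040000000008000030000a00009000000000a0000700008000030000000003000080000200007000000000400002000060000500000000020000400003000010000000000000010000100002000000000100000000000000000000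

def iv : List (Nat × Nat) := [(2, 3)]

def RL : List (List Nat × Nat) := [([2], 15), ([1, 3, 3, 3, 1, 3, 1, 2, 2, 2, 2], 1), ([4, 2], 2), ([1, 4], 3)]

def lets : List Nat := [1, 2, 3, 4]

def letsk : List Nat := [1, 2, 3]

noncomputable def P : Par := ⟨tab, 100, 1267650600228229401496703205375, 17, fun _ _ => false, .e⟩

end Cfsg.Agent.CosetEnum.J3T4
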